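import Mathlib
import Groth.Agent.H90.LocImm.Prop

set_option autoImplicit false

universe u

open CategoryTheory AlgebraicGeometry

namespace Groth.Agent.H90.LocImmF

open _root_.LocImm Groth.Agent.H90.LocImm

theorem locallyLocQ_stableUnderComposition :
    RingHom.StableUnderComposition (RingHom.Locally (@LocQ.{u})) :=
  RingHom.locally_stableUnderComposition locQ_respectsIso
    locQ_isStableUnderBaseChange.localizationPreserves locQ_stableUnderComposition

instance locP_isStableUnderComposition : LocP.{u}.IsStableUnderComposition :=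
  HasRingHomProperty.stableUnderComposition locallyLocQ_stableUnderComposition

theorem locallyLocQ_containsIdentities :
    RingHom.ContainsIdentities (RingHom.Locally (@LocQ.{u})) := by
  intro R _
  exact RingHom.locally_of locQ_respectsIso _
    (isLocHom_of_bijective (RingHom.id R) Function.bijective_id)

instance locP_containsIdentities : LocP.{u}.ContainsIdentities :=
  HasRingHomProperty.containsIdentities locallyLocQ_containsIdentities

theorem isLocalizing_of_isOpenImmersion {X Y : Scheme.{u}} (f : X ⟶ Y) [IsOpenImmersion f] :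
    IsLocalizing f :=
  HasRingHomProperty.of_isOpenImmersion (P := LocP) locallyLocQ_containsIdentities

theorem isLocalizing_comp {X Y Z : Scheme.{u}} (f : X ⟶ Y) (g : Y ⟶ Z)
    (hf : IsLocalizing f) (hg : IsLocalizing g) : IsLocalizing (f ≫ g) :=
  LocP.comp_mem f g hf hg

theorem isLocImmersion_of_isOpenImmersion {X Y : Scheme.{u}} (f : X ⟶ Y) [IsOpenImmersion f] :
    IsLocImmersion f :=
  ⟨isLocalizing_of_isOpenImmersion f, f.isOpenEmbedding.injective⟩

theorem isLocImmersion_comp {X Y Z : Scheme.{u}} (f : X ⟶ Y) (g : Y ⟶ Z)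
    (hf : IsLocImmersion f) (hg : IsLocImmersion g) : IsLocImmersion (f ≫ g) := by
  refine ⟨isLocalizing_comp f g hf.1 hg.1, ?_⟩
  intro x y h
  apply hf.2
  apply hg.2
  simpa using h

theorem stableUnderGeneralization_range {X Y : Scheme.{u}} (f : X ⟶ Y) (hf : IsLocalizing f) :
    StableUnderGeneralization (Set.range f) :=
  (generalizingMap_of_isLocalizing f hf).stableUnderGeneralization_range

/-- a localizing morphism restricted to an open of the source -/
theorem isLocalizing_ι_comp {X Y : Scheme.{u}} (f : X ⟶ Y) (hf : IsLocalizing f) (U : X.Opens) :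
    IsLocalizing (U.ι ≫ f) :=
  isLocalizing_comp _ _ (isLocalizing_of_isOpenImmersion U.ι) hf

/-- local nature on the source -/
theorem isLocalizing_of_forall_exists {X Y : Scheme.{u}} (f : X ⟶ Y)
    (h : ∀ x : X, ∃ U : X.Opens, x ∈ U ∧ IsLocalizing (U.ι ≫ f)) : IsLocalizing f := by
  choose U hxU hU using h
  have hcov : iSup U = ⊤ := by
    rw [eq_top_iff]
    intro x _
    exact TopologicalSpace.Opens.mem_iSup.mpr ⟨x, hxU x⟩
  exact IsZariskiLocalAtSource.of_iSup_eq_top (P := LocP) U hcov hU

end Groth.Agent.H90.LocImmF
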