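import Mathlib
import Groth.Prelude.Def_EssFT
import Groth.Agent.H90.LocImmF.Comp

set_option autoImplicit false

universe u

open CategoryTheory AlgebraicGeometry TopologicalSpace

namespace Groth.Agent.H90.LocImmF

open _root_.LocImm Groth.Agent.H90.LocImm

theorem isNoetherian_of_lft_qc {X Y : Scheme.{u}} (f : X ⟶ Y) [LocallyOfFiniteType f]
    [QuasiCompact f] [IsNoetherian Y] : IsNoetherian X :=
  { toIsLocallyNoetherian := LocallyOfFiniteType.isLocallyNoetherian f
    toCompactSpace := QuasiCompact.compactSpace_of_compactSpace f }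

theorem locallyEssFiniteType_of_locallyOfFiniteType {X Y : Scheme.{u}} (f : X ⟶ Y)
    [LocallyOfFiniteType f] : EssFT.LocallyEssFiniteType f := by
  refine ⟨fun x => ?_⟩
  obtain ⟨_, ⟨U, hU, rfl⟩, hxU, -⟩ := Y.isBasis_affineOpens.exists_subset_of_mem_open
    (Set.mem_univ (f x)) isOpen_univ
  obtain ⟨_, ⟨V, hV, rfl⟩, hxV, hVU⟩ := X.isBasis_affineOpens.exists_subset_of_mem_open
    hxU (f ⁻¹ᵁ U).2
  refine ⟨⟨U, hU⟩, ⟨V, hV⟩, hxV, hVU, ?_⟩
  exact (f.finiteType_appLE hU hV hVU).essFiniteType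

theorem isOpenImmersion_of_isLocImmersion_of_lft {X Y : Scheme.{u}} [IsLocallyNoetherian Y]
    (f : X ⟶ Y) (hf : IsLocImmersion f) [LocallyOfFiniteType f] : IsOpenImmersion f := by
  have hg := generalizingMap_of_isLocalizing f hf.1
  have hopen : IsOpenMap f := isOpenMap_of_generalizingMap f hg
  have hoe : Topology.IsOpenEmbedding f :=
    Topology.isOpenEmbedding_iff_continuous_injective_isOpenMap.mpr ⟨f.continuous, hf.2, hopen⟩
  have := isIso_stalkMap_of_isLocalizing f hf.1
  exact IsOpenImmersion.of_isIso_stalkMap f hoe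

theorem isLocalizing_of_comp_isOpenImmersion {X Y Z : Scheme.{u}} (f : X ⟶ Y) (g : Y ⟶ Z)
    [IsOpenImmersion g] (h : IsLocalizing (f ≫ g)) : IsLocalizing f :=
  MorphismProperty.of_postcomp (W := LocP) (W' := @IsOpenImmersion) f g inferInstance h

theorem isLocImmersion_of_comp_isOpenImmersion {X Y Z : Scheme.{u}} (f : X ⟶ Y) (g : Y ⟶ Z)
    [IsOpenImmersion g] (h : IsLocImmersion (f ≫ g)) : IsLocImmersion f := by
  refine ⟨isLocalizing_of_comp_isOpenImmersion f g h.1, ?_⟩
  intro x y hxy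
  apply h.2
  simp [hxy]

end Groth.Agent.H90.LocImmF
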