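import Mathlib
import Groth.Prelude.Def_EssFT
import Groth.Agent.H90.LocImmF.Comp
import Groth.Agent.H22.ZMTLocalIso2

set_option autoImplicit false

universe u

open CategoryTheory AlgebraicGeometry

namespace Groth.Agent.H90.LocImmF

open _root_.LocImm Groth.Agent.H90.LocImm

/-- `Spec` of a localization map is localizing. -/
theorem isLocalizing_specMap_of_isLocHom {A B : CommRingCat.{u}} (φ : A ⟶ B)
    (h : IsLocHom φ.hom) : IsLocalizing (Spec.map φ) := by
  change LocP (Spec.map φ)
  rw [HasRingHomProperty.Spec_iff (P := LocP)]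
  exact RingHom.locally_of locQ_respectsIso _ h

/-- Local structure: a morphism locally essentially of finite type to a locally Noetherian scheme
which induces an isomorphism on the local rings at `y` is localizing on a neighbourhood of `y`. -/
theorem exists_open_isLocalizing_of_bijective_stalkMap {Y₁ Y₂ : Scheme.{u}}
    [IsLocallyNoetherian Y₂] (g : Y₁ ⟶ Y₂) [EssFT.LocallyEssFiniteType g] (y : Y₁)
    (h : Function.Bijective (g.stalkMap y).hom) :
    ∃ V : Y₁.Opens, y ∈ V ∧ IsLocalizing (V.ι ≫ g) := by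
  obtain ⟨W, V, hyV, e, hess⟩ :=
    EssFT.LocallyEssFiniteType.exists_appLE_essFiniteType (f := g) y
  have hV := V.2
  have hW := W.2
  set φ := g.appLE W.1 V.1 e with hφ
  algebraize [φ.hom]
  have hessA : Algebra.EssFiniteType Γ(Y₂, W.1) Γ(Y₁, V.1) := hess
  let C := Algebra.EssFiniteType.subalgebra Γ(Y₂, W.1) Γ(Y₁, V.1)
  let α : CommRingCat.of Γ(Y₂, W.1) ⟶ CommRingCat.of C :=
    CommRingCat.ofHom (algebraMap Γ(Y₂, W.1) C)
  let β : CommRingCat.of C ⟶ CommRingCat.of Γ(Y₁, V.1) :=
    CommRingCat.ofHom (algebraMap C Γ(Y₁, V.1))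
  have hαβ : α ≫ β = φ := by
    ext x
    rfl
  let j : Spec (CommRingCat.of Γ(Y₁, V.1)) ⟶ Spec (CommRingCat.of C) := Spec.map β
  let h' : Spec (CommRingCat.of C) ⟶ Y₂ := Spec.map α ≫ hW.fromSpec
  have key : hV.fromSpec ≫ g = j ≫ h' := by
    rw [← IsAffineOpen.SpecMap_appLE_fromSpec g hW hV e]
    change Spec.map φ ≫ _ = Spec.map β ≫ Spec.map α ≫ _
    rw [← hαβ, Spec.map_comp, Category.assoc]
  -- `j` is localizing
  have hj : IsLocalizing j := by
    apply isLocalizing_specMap_of_isLocHom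
    exact isLocHom_algebraMap (Algebra.EssFiniteType.submonoid Γ(Y₂, W.1) Γ(Y₁, V.1))
  -- `h'` is locally of finite type
  have hα : LocallyOfFiniteType (Spec.map α) := by
    rw [HasRingHomProperty.Spec_iff (P := @LocallyOfFiniteType)]
    exact RingHom.finiteType_algebraMap.mpr inferInstance
  have hh' : LocallyOfFiniteType h' := inferInstance
  -- the point
  obtain ⟨y', rfl⟩ : ∃ y', hV.fromSpec y' = y := by
    have : y ∈ Set.range hV.fromSpec := by
      rw [hV.range_fromSpec]; exact hyV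
    exact this
  -- stalk maps
  have h1 : IsIso (g.stalkMap (hV.fromSpec y')) :=
    (ConcreteCategory.isIso_iff_bijective _).mpr h
  have hoi : IsOpenImmersion hV.fromSpec := hV.isOpenImmersion_fromSpec
  have h2 : IsIso ((hV.fromSpec ≫ g).stalkMap y') := by
    rw [Scheme.Hom.stalkMap_comp]
    have h0 : IsIso (hV.fromSpec.stalkMap y') := inferInstance
    exact @IsIso.comp_isIso _ _ _ _ _ _ _ h1 h0
  rw [key] at h2
  rw [Scheme.Hom.stalkMap_comp] at h2
  have h3 : IsIso (j.stalkMap y') := isIso_stalkMap_of_isLocalizing j hj y'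
  have h4 : IsIso (h'.stalkMap (j y')) := by
    exact @IsIso.of_isIso_comp_right _ _ _ _ _ _ _ h3 h2
  have h5 : Function.Bijective (h'.stalkMap (j y')).hom :=
    (ConcreteCategory.isIso_iff_bijective _).mp h4
  obtain ⟨W', hW', hopen⟩ :=
    Groth.Agent.H22.ZMTLocalIso2.exists_isOpenImmersion_of_bijective_stalkMap' h' (j y') h5
  -- the open `V' = j⁻¹ W'`
  have hloc : IsLocalizing ((j ⁻¹ᵁ W').ι ≫ j ≫ h') := by
    rw [← Category.assoc, ← morphismRestrict_ι, Category.assoc]
    refine isLocalizing_comp _ _ ?_ (isLocalizing_of_isOpenImmersion _)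
    exact IsZariskiLocalAtTarget.restrict (P := LocP) hj W'
  refine ⟨hV.fromSpec ''ᵁ (j ⁻¹ᵁ W'), ⟨y', hW', rfl⟩, ?_⟩
  rw [← Scheme.Hom.isoImage_inv_ι, Category.assoc, Category.assoc, key]
  exact isLocalizing_comp _ _ (isLocalizing_of_isOpenImmersion _) hloc

end Groth.Agent.H90.LocImmF
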