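import Mathlib
import Groth.Agent.H90.LocImmF.Locus
import Groth.Agent.H90.LocImm.Sep

set_option autoImplicit false

universe u

open CategoryTheory AlgebraicGeometry TopologicalSpace

namespace Groth.Agent.H90.LocImmF

open _root_.LocImm Groth.Agent.H90.LocImm

section top
variable {α : Type*} [TopologicalSpace α]

/-- a maximal point of a quasi-sober space is the generic point of an irreducible component -/
theorem mem_genericPoints_of_maximal [QuasiSober α] (η : α)
    (h : ∀ η' : α, η' ⤳ η → η' = η) : η ∈ genericPoints α := by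
  change closure {η} ∈ irreducibleComponents α
  refine ⟨isIrreducible_singleton.closure, ?_⟩
  intro Z hZ hle
  obtain ⟨z, hz⟩ := QuasiSober.sober hZ.closure isClosed_closure
  have hηZ : η ∈ closure Z := subset_closure (hle (subset_closure rfl))
  have hzη : z ⤳ η := by
    rw [specializes_iff_mem_closure, hz.def]
    exact hηZ
  have := h z hzη
  subst this
  calc Z ⊆ closure Z := subset_closure
    _ = closure {z} := hz.def.symm

/-- In a Noetherian quasi-sober T0 space, given a set `F` stable under generization, there is an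
open neighbourhood `U` of `F` all of whose maximal points lie in `F`. -/
theorem exists_open_maximal_mem [NoetherianSpace α] [QuasiSober α] [T0Space α] (F : Set α)
    (hF : StableUnderGeneralization F) :
    ∃ U : Set α, IsOpen U ∧ F ⊆ U ∧
      ∀ η ∈ U, (∀ η' : α, η' ⤳ η → η' = η) → η ∈ F := by
  classical
  let Bad : Set α := {η | η ∈ genericPoints α ∧ η ∉ F}
  have hfin : Bad.Finite :=
    (genericPoints.finite NoetherianSpace.finite_irreducibleComponents).subset (fun _ h => h.1)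
  have hcl : IsClosed (⋃ η ∈ Bad, closure ({η} : Set α)) :=
    hfin.isClosed_biUnion (fun _ _ => isClosed_closure)
  refine ⟨(⋃ η ∈ Bad, closure ({η} : Set α))ᶜ, hcl.isOpen_compl, ?_, ?_⟩
  · intro x hx hmem
    simp only [Set.mem_iUnion] at hmem
    obtain ⟨η, hη, hxη⟩ := hmem
    exact hη.2 (hF (specializes_iff_mem_closure.mpr hxη) hx)
  · intro η hηU hmax
    by_contra hηF
    apply hηU
    simp only [Set.mem_iUnion]
    exact ⟨η, ⟨mem_genericPoints_of_maximal η hmax, hηF⟩, subset_closure rfl⟩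

end top

/-- Shrinking to get injectivity. -/
theorem exists_open_isLocImmersion {X Y₁ Y₂ : Scheme.{u}} [IsNoetherian Y₁]
    [IsLocallyNoetherian Y₂]
    (f₁ : X ⟶ Y₁) (f₂ : X ⟶ Y₂) (g : Y₁ ⟶ Y₂) (hf₁ : IsLocImmersion f₁)
    (hf₂ : IsLocImmersion f₂) [IsSeparated g] [EssFT.LocallyEssFiniteType g]
    (h : f₁ ≫ g = f₂) :
    ∃ U : Y₁.Opens, Set.range (fun x => f₁ x) ⊆ (U : Set Y₁) ∧ IsLocImmersion (U.ι ≫ g) := by
  -- Step A/B: the localizing locus
  have hA : ∀ x : X, ∃ V : Y₁.Opens, f₁ x ∈ V ∧ IsLocalizing (V.ι ≫ g) := by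
    intro x
    apply exists_open_isLocalizing_of_bijective_stalkMap
    have h1 : IsIso (f₁.stalkMap x) := isIso_stalkMap_of_isLocalizing f₁ hf₁.1 x
    have h2 : IsIso ((f₁ ≫ g).stalkMap x) := by
      rw [h]
      exact isIso_stalkMap_of_isLocalizing f₂ hf₂.1 x
    rw [Scheme.Hom.stalkMap_comp] at h2
    have h3 : IsIso (g.stalkMap (f₁ x)) := @IsIso.of_isIso_comp_right _ _ _ _ _ _ _ h1 h2
    exact (ConcreteCategory.isIso_iff_bijective _).mp h3
  choose V hxV hV using hA
  let L : Y₁.Opens := ⨆ x, V x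
  -- Step C: shrink
  obtain ⟨U₀, hU₀, hFU₀, hmax⟩ := exists_open_maximal_mem (Set.range f₁)
    (stableUnderGeneralization_range f₁ hf₁.1)
  let U : Y₁.Opens := L ⊓ ⟨U₀, hU₀⟩
  have hFU : Set.range (fun x => f₁ x) ⊆ (U : Set Y₁) := by
    rintro _ ⟨x, rfl⟩
    exact ⟨Opens.mem_iSup.mpr ⟨x, hxV x⟩, hFU₀ ⟨x, rfl⟩⟩
  have hloc : IsLocalizing (U.ι ≫ g) := by
    apply isLocalizing_of_forall_exists
    intro u
    obtain ⟨x, hx⟩ := Opens.mem_iSup.mp u.2.1
    -- the open `U.ι⁻¹ (V x)` of `U`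
    refine ⟨U.ι ⁻¹ᵁ V x, hx, ?_⟩
    have hle : U.ι ''ᵁ (U.ι ⁻¹ᵁ V x) ≤ V x := by
      rintro _ ⟨a, ha, rfl⟩
      exact ha
    have e1 : (U.ι ⁻¹ᵁ V x).ι ≫ U.ι =
        (U.ι.isoImage (U.ι ⁻¹ᵁ V x)).hom ≫ Y₁.homOfLE hle ≫ (V x).ι := by
      rw [Scheme.homOfLE_ι, Scheme.Hom.isoImage_hom_ι]
    rw [← Category.assoc, e1, Category.assoc, Category.assoc]
    exact isLocalizing_comp _ _ (isLocalizing_of_isOpenImmersion _)
      (isLocalizing_comp _ _ (isLocalizing_of_isOpenImmersion _) (hV x))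
  refine ⟨U, hFU, hloc, ?_⟩
  apply injective_of_isSeparated (U.ι ≫ g) hloc
  intro u hu u' hu' huu'
  have hmem : ∀ w : ↥U, (∀ w' : ↥U, w' ⤳ w → w' = w) → w.1 ∈ Set.range f₁ := by
    intro w hw
    apply hmax w.1 w.2.2
    intro η' hη'
    have hη'U : η' ∈ U := U.2.stableUnderGeneralization hη' w.2
    have := hw ⟨η', hη'U⟩ ((subtype_specializes_iff _ _).mpr hη')
    exact congrArg Subtype.val this
  obtain ⟨x, hx⟩ := hmem u hu
  obtain ⟨x', hx'⟩ := hmem u' hu'
  have e : f₂ x = f₂ x' := by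
    have h1 : g (f₁ x) = g (f₁ x') := by
      rw [hx, hx']
      simpa using huu'
    rw [← h]
    simpa using h1
  have := hf₂.2 e
  subst this
  exact Subtype.ext (hx.symm.trans hx')

end Groth.Agent.H90.LocImmF
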