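import Mathlib
import Groth.Agent.H90.LocImmF.Shrink
import Groth.Agent.H90.LocImmF.Basic2
import Groth.Agent.H90.LocImm.Dense
import Groth.Agent.H68.ZMT.ModPairExtend

set_option autoImplicit false

universe u

open CategoryTheory AlgebraicGeometry TopologicalSpace Limits

namespace Groth.Agent.H90.LocImmF

open _root_.LocImm Groth.Agent.H90.LocImm

/-- Two localizing immersions of `X` into separated finite type `S`-schemes have a common
open "neighbourhood" `W`, in which `X` is dense. -/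
theorem exists_common_open {X Y₁ Y₂ S : Scheme.{u}} [IsNoetherian X] [IsNoetherian Y₁]
    [IsNoetherian Y₂] [IsNoetherian S]
    (f₁ : X ⟶ Y₁) (f₂ : X ⟶ Y₂) (π₁ : Y₁ ⟶ S) (π₂ : Y₂ ⟶ S)
    (hf₁ : IsLocImmersion f₁) (hf₂ : IsLocImmersion f₂)
    [IsSeparated π₁] [IsSeparated π₂] [LocallyOfFiniteType π₁] [LocallyOfFiniteType π₂]
    (h : f₁ ≫ π₁ = f₂ ≫ π₂) :
    ∃ (W : Scheme.{u}) (k : X ⟶ W) (g₁ : W ⟶ Y₁) (g₂ : W ⟶ Y₂), IsLocImmersion k ∧
      IsOpenImmersion g₁ ∧ IsOpenImmersion g₂ ∧ g₁ ≫ π₁ = g₂ ≫ π₂ ∧ k ≫ g₁ = f₁ ∧ k ≫ g₂ = f₂ ∧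
      DenseRange k := by
  have hqc₂ : QuasiCompact π₂ := inferInstance
  have hqc₁ : QuasiCompact π₁ := inferInstance
  let f : X ⟶ pullback π₁ π₂ := pullback.lift f₁ f₂ h
  have hPN : IsNoetherian (pullback π₁ π₂) := isNoetherian_of_lft_qc (pullback.fst π₁ π₂)
  have hfqc : QuasiCompact f := inferInstance
  let q₁ : f.image ⟶ Y₁ := f.imageι ≫ pullback.fst π₁ π₂
  let q₂ : f.image ⟶ Y₂ := f.imageι ≫ pullback.snd π₁ π₂
  have hZN : IsNoetherian f.image := isNoetherian_of_lft_qc f.imageι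
  have e₁ : f.toImage ≫ q₁ = f₁ := by
    simp only [q₁, Scheme.Hom.toImage_imageι_assoc, f, pullback.lift_fst]
  have e₂ : f.toImage ≫ q₂ = f₂ := by
    simp only [q₂, Scheme.Hom.toImage_imageι_assoc, f, pullback.lift_snd]
  have hdom : IsSchemeTheoreticallyDominant f.toImage :=
    Groth.Agent.H68.ZMT.isSchemeTheoreticallyDominant_toImage f
  have hk₀ : IsLocImmersion f.toImage :=
    isLocImmersion_of_dense f.toImage q₁ (by rw [e₁]; exact hf₁)
      (fun U => f.toImage.app_injective U)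
  have hq₁ : EssFT.LocallyEssFiniteType q₁ := locallyEssFiniteType_of_locallyOfFiniteType q₁
  have hq₂ : EssFT.LocallyEssFiniteType q₂ := locallyEssFiniteType_of_locallyOfFiniteType q₂
  obtain ⟨U₁, hU₁, hloc₁⟩ := exists_open_isLocImmersion f.toImage f₁ q₁ hk₀ hf₁ e₁
  obtain ⟨U₂, hU₂, hloc₂⟩ := exists_open_isLocImmersion f.toImage f₂ q₂ hk₀ hf₂ e₂
  have ho₁ : IsOpenImmersion (U₁.ι ≫ q₁) := isOpenImmersion_of_isLocImmersion_of_lft _ hloc₁
  have ho₂ : IsOpenImmersion (U₂.ι ≫ q₂) := isOpenImmersion_of_isLocImmersion_of_lft _ hloc₂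
  let W : f.image.Opens := U₁ ⊓ U₂
  have hrange : Set.range f.toImage ⊆ Set.range W.ι := by
    rw [Scheme.Opens.range_ι]
    rintro _ ⟨x, rfl⟩
    exact ⟨hU₁ ⟨x, rfl⟩, hU₂ ⟨x, rfl⟩⟩
  let k : X ⟶ W := IsOpenImmersion.lift W.ι f.toImage hrange
  have hk : k ≫ W.ι = f.toImage := IsOpenImmersion.lift_fac _ _ _
  have hg₁ : IsOpenImmersion (W.ι ≫ q₁) := by
    have : W.ι ≫ q₁ = f.image.homOfLE (inf_le_left : W ≤ U₁) ≫ U₁.ι ≫ q₁ := by
      rw [Scheme.homOfLE_ι_assoc]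
    rw [this]
    infer_instance
  have hg₂ : IsOpenImmersion (W.ι ≫ q₂) := by
    have : W.ι ≫ q₂ = f.image.homOfLE (inf_le_right : W ≤ U₂) ≫ U₂.ι ≫ q₂ := by
      rw [Scheme.homOfLE_ι_assoc]
    rw [this]
    infer_instance
  refine ⟨W, k, W.ι ≫ q₁, W.ι ≫ q₂, ?_, hg₁, hg₂, ?_, ?_, ?_, ?_⟩
  · apply isLocImmersion_of_comp_isOpenImmersion k W.ι
    rw [hk]
    exact hk₀
  · simp only [q₁, q₂, Category.assoc, pullback.condition]
  · rw [← Category.assoc, hk, e₁]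
  · rw [← Category.assoc, hk, e₂]
  · -- density
    have hd : DenseRange f.toImage := f.toImage.denseRange
    have hemb : Topology.IsInducing W.ι := W.ι.isOpenEmbedding.isInducing
    intro w
    rw [hemb.closure_eq_preimage_closure_image]
    have : W.ι '' Set.range k = Set.range f.toImage := by
      rw [← Set.range_comp]
      congr 1
      ext x
      simp [← hk]
    rw [this, hd.closure_eq]
    trivial

end Groth.Agent.H90.LocImmF
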