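import Mathlib
import Groth.Prelude.Def_EssFT
import Groth.Agent.H90.LocImmF.Locus
import Groth.Agent.H90.LocImmF.Basic2
import Groth.Agent.H90.LocImm.Affine

set_option autoImplicit false

universe u

open CategoryTheory AlgebraicGeometry TopologicalSpace Limits

namespace Groth.Agent.H90.LocImmF

open _root_.LocImm Groth.Agent.H90.LocImm

/-- An essentially finite type ring map factors as a finite type map followed by a
localization. -/
theorem exists_factor_of_essFiniteType {A B : Type u} [CommRing A] [CommRing B] (φ : A →+* B)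
    (hφ : φ.EssFiniteType) :
    ∃ (C : Type u) (_ : CommRing C) (α : A →+* C) (ψ : C →+* B), ψ.comp α = φ ∧ α.FiniteType ∧
      IsLocHom ψ := by
  letI := φ.toAlgebra
  haveI : Algebra.EssFiniteType A B := hφ
  refine ⟨Algebra.EssFiniteType.subalgebra A B, inferInstance,
    algebraMap A (Algebra.EssFiniteType.subalgebra A B),
    algebraMap (Algebra.EssFiniteType.subalgebra A B) B, ?_, ?_, ?_⟩
  · ext a; rfl
  · rw [RingHom.finiteType_algebraMap]; infer_instance
  · exact isLocHom_algebraMap (Algebra.EssFiniteType.submonoid A B)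

/-- the spectrum of a localizing ring map is a localizing immersion -/
theorem isLocImmersion_specMap_of_isLocHom {A B : CommRingCat.{u}} (φ : A ⟶ B)
    (h : IsLocHom φ.hom) : IsLocImmersion (Spec.map φ) :=
  ⟨isLocalizing_specMap_of_isLocHom φ h, comap_injective_of_isLocHom φ.hom h⟩

/-- Local factorization of a locally essentially finite type morphism. -/
theorem exists_local_factorization {X S : Scheme.{u}} [IsNoetherian S] (f : X ⟶ S)
    [EssFT.LocallyEssFiniteType f] (x : X) :
    ∃ (V : X.Opens) (_ : x ∈ V) (Y : Scheme.{u}) (k : (V : Scheme.{u}) ⟶ Y) (p : Y ⟶ S),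
      IsNoetherian Y ∧ IsLocImmersion k ∧ IsSeparated p ∧ LocallyOfFiniteType p ∧
      QuasiCompact p ∧ k ≫ p = V.ι ≫ f := by
  obtain ⟨U, V, hxV, e, hφ⟩ := EssFT.LocallyEssFiniteType.exists_appLE_essFiniteType (f := f) x
  obtain ⟨C, _, α, ψ, hψα, hα, hψ⟩ := exists_factor_of_essFiniteType _ hφ
  let k : (V.1 : Scheme.{u}) ⟶ Spec (CommRingCat.of C) :=
    V.2.isoSpec.hom ≫ Spec.map (CommRingCat.ofHom ψ)
  let p : Spec (CommRingCat.of C) ⟶ S := Spec.map (CommRingCat.ofHom α) ≫ U.2.fromSpec
  have hk : IsLocImmersion k :=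
    isLocImmersion_comp _ _ (isLocImmersion_of_isOpenImmersion _)
      (isLocImmersion_specMap_of_isLocHom _ hψ)
  have hp1 : LocallyOfFiniteType (Spec.map (CommRingCat.ofHom α)) := by
    rw [HasRingHomProperty.Spec_iff (P := @LocallyOfFiniteType)]
    exact hα
  have hp2 : LocallyOfFiniteType p := inferInstance
  have hp3 : QuasiCompact p := inferInstance
  have hp4 : IsSeparated p := inferInstance
  have hkp : k ≫ p = V.1.ι ≫ f := by
    simp only [k, p, Category.assoc]
    rw [← Spec.map_comp_assoc, ← CommRingCat.ofHom_comp, hψα, CommRingCat.ofHom_hom,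
      IsAffineOpen.SpecMap_appLE_fromSpec f U.2 V.2 e, IsAffineOpen.isoSpec_hom_fromSpec_assoc]
  exact ⟨V.1, hxV, _, k, p, isNoetherian_of_lft_qc p, hk, hp4, hp2, hp3, hkp⟩

end Groth.Agent.H90.LocImmF
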