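import Mathlib
import Groth.Prelude.Def_EssFT
import Groth.Agent.H90.LocImmF.LocalFact

set_option autoImplicit false

universe u

open CategoryTheory AlgebraicGeometry TopologicalSpace Limits

namespace Groth.Agent.H90.LocImmF

open _root_.LocImm Groth.Agent.H90.LocImm

theorem locallyEssFiniteType_stableUnderComposition :
    RingHom.StableUnderComposition (RingHom.Locally RingHom.EssFiniteType) :=
  RingHom.locally_stableUnderComposition RingHom.EssFiniteType.respectsIso
    RingHom.EssFiniteType.isStableUnderBaseChange.localizationPreserves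
    RingHom.EssFiniteType.stableUnderComposition

instance locallyEssFiniteType_isStableUnderComposition :
    MorphismProperty.IsStableUnderComposition (@EssFT.LocallyEssFiniteType.{u}) :=
  HasRingHomProperty.stableUnderComposition locallyEssFiniteType_stableUnderComposition

theorem locallyEssFiniteType_comp {X Y Z : Scheme.{u}} (f : X ⟶ Y) (g : Y ⟶ Z)
    [hf : EssFT.LocallyEssFiniteType f] [hg : EssFT.LocallyEssFiniteType g] :
    EssFT.LocallyEssFiniteType (f ≫ g) :=
  MorphismProperty.comp_mem (@EssFT.LocallyEssFiniteType.{u}) f g hf hg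

theorem essFiniteType_of_isLocHom {A B : Type*} [CommRing A] [CommRing B] (φ : A →+* B)
    (h : IsLocHom φ) : φ.EssFiniteType := by
  letI := φ.toAlgebra
  obtain ⟨M, hM⟩ := h
  exact Algebra.EssFiniteType.of_isLocalization B M

theorem locallyEssFiniteType_of_isLocalizing {X Y : Scheme.{u}} (f : X ⟶ Y)
    (hf : IsLocalizing f) : EssFT.LocallyEssFiniteType f := by
  refine ⟨fun x => ?_⟩
  obtain ⟨U, V, hxV, e, h⟩ := hf x
  exact ⟨U, V, hxV, e, essFiniteType_of_isLocHom _ h⟩

/-- The canonical morphism `Spec 𝒪_{X,x} ⟶ X` is a localizing immersion. -/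
theorem isLocImmersion_fromSpecStalk (X : Scheme.{u}) (x : X) :
    IsLocImmersion (X.fromSpecStalk x) := by
  obtain ⟨_, ⟨U, hU, rfl⟩, hxU, -⟩ := X.isBasis_affineOpens.exists_subset_of_mem_open
    (Set.mem_univ x) isOpen_univ
  rw [← hU.fromSpecStalk_eq_fromSpecStalk hxU, IsAffineOpen.fromSpecStalk]
  refine isLocImmersion_comp _ _ (isLocImmersion_specMap_of_isLocHom _ ?_)
    (isLocImmersion_of_isOpenImmersion _)
  exact ⟨_, hU.isLocalization_stalk ⟨x, hxU⟩⟩

/-- the spectrum of a ring isomorphism is a localizing immersion -/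
theorem isLocImmersion_of_isIso {X Y : Scheme.{u}} (f : X ⟶ Y) [IsIso f] : IsLocImmersion f :=
  isLocImmersion_of_isOpenImmersion f

end Groth.Agent.H90.LocImmF
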