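import Mathlib
import Groth.Agent.H90.LocImmF.Shrink

set_option autoImplicit false

universe u

open CategoryTheory AlgebraicGeometry TopologicalSpace

namespace Groth.Agent.H90.LocImmF

open _root_.LocImm Groth.Agent.H90.LocImm

section top

variable {P A₁ A₂ : Type*} [TopologicalSpace P] [TopologicalSpace A₁] [TopologicalSpace A₂]

/-- Separating a closed set of a Noetherian space from a "product" of generization-stable sets by
open neighbourhoods of the factors. -/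
theorem exists_opens_disjoint [NoetherianSpace P] [QuasiSober P] [T0Space P]
    (π₁ : P → A₁) (π₂ : P → A₂) (h₁ : Continuous π₁) (h₂ : Continuous π₂) (B : Set P)
    (hB : IsClosed B) (F₁ : Set A₁) (F₂ : Set A₂) (hF₁ : StableUnderGeneralization F₁)
    (hF₂ : StableUnderGeneralization F₂)
    (hdisj : ∀ b ∈ B, π₁ b ∈ F₁ → π₂ b ∈ F₂ → False) :
    ∃ (O₁ : Set A₁) (O₂ : Set A₂), IsOpen O₁ ∧ IsOpen O₂ ∧ F₁ ⊆ O₁ ∧ F₂ ⊆ O₂ ∧
      ∀ b ∈ B, π₁ b ∈ O₁ → π₂ b ∈ O₂ → False := by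
  classical
  haveI : QuasiSober ↥B := hB.isClosedEmbedding_subtypeVal.quasiSober
  let G : Set ↥B := {β | ∀ β' : ↥B, β' ⤳ β → β' = β}
  have hGfin : G.Finite :=
    (genericPoints.finite NoetherianSpace.finite_irreducibleComponents).subset
      (fun β hβ => mem_genericPoints_of_maximal β hβ)
  let G₁ : Set ↥B := {β | β ∈ G ∧ π₁ β.1 ∉ F₁}
  let G₂ : Set ↥B := {β | β ∈ G ∧ π₂ β.1 ∉ F₂}
  have hG₁ : G₁.Finite := hGfin.subset (fun _ h => h.1)
  have hG₂ : G₂.Finite := hGfin.subset (fun _ h => h.1)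
  have hC₁ : IsClosed (⋃ β ∈ G₁, closure ({π₁ β.1} : Set A₁)) :=
    hG₁.isClosed_biUnion (fun _ _ => isClosed_closure)
  have hC₂ : IsClosed (⋃ β ∈ G₂, closure ({π₂ β.1} : Set A₂)) :=
    hG₂.isClosed_biUnion (fun _ _ => isClosed_closure)
  refine ⟨(⋃ β ∈ G₁, closure ({π₁ β.1} : Set A₁))ᶜ, (⋃ β ∈ G₂, closure ({π₂ β.1} : Set A₂))ᶜ,
    hC₁.isOpen_compl, hC₂.isOpen_compl, ?_, ?_, ?_⟩
  · intro y hy hmem
    simp only [Set.mem_iUnion] at hmem
    obtain ⟨β, hβ, hyβ⟩ := hmem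
    exact hβ.2 (hF₁ (specializes_iff_mem_closure.mpr hyβ) hy)
  · intro y hy hmem
    simp only [Set.mem_iUnion] at hmem
    obtain ⟨β, hβ, hyβ⟩ := hmem
    exact hβ.2 (hF₂ (specializes_iff_mem_closure.mpr hyβ) hy)
  · intro b hb hb₁ hb₂
    obtain ⟨β, hβb, hβmax⟩ := exists_maximal_generization (⟨b, hb⟩ : ↥B)
    have hsp : β.1 ⤳ b := (subtype_specializes_iff _ _).mp hβb
    by_cases h1 : π₁ β.1 ∈ F₁
    · by_cases h2 : π₂ β.1 ∈ F₂
      · exact hdisj β.1 β.2 h1 h2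
      · apply hb₂
        simp only [Set.mem_iUnion]
        exact ⟨β, ⟨hβmax, h2⟩, specializes_iff_mem_closure.mp (hsp.map h₂)⟩
    · apply hb₁
      simp only [Set.mem_iUnion]
      exact ⟨β, ⟨hβmax, h1⟩, specializes_iff_mem_closure.mp (hsp.map h₁)⟩

end top

/-- The source of a localizing morphism into a locally Noetherian scheme is locally Noetherian. -/
theorem isLocallyNoetherian_of_isLocalizing {Q P : Scheme.{u}} (k : Q ⟶ P) (hk : IsLocalizing k)
    [IsLocallyNoetherian P] : IsLocallyNoetherian Q := by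
  choose U V hxV e hloc using hk
  have hcov : (⨆ x, (V x : Q.Opens)) = ⊤ := by
    rw [eq_top_iff]
    intro x _
    exact Opens.mem_iSup.mpr ⟨x, hxV x⟩
  apply isLocallyNoetherian_of_affine_cover hcov
  intro x
  obtain ⟨M, hM⟩ := hloc x
  have hN : IsNoetherianRing Γ(P, (U x).1) := IsLocallyNoetherian.component_noetherian (U x)
  letI := (k.appLE (U x).1 (V x).1 (e x)).hom.toAlgebra
  exact IsLocalization.isNoetherianRing M _ hN

end Groth.Agent.H90.LocImmF
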