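import Mathlib
import Groth.Agent.H90.LocImmF.GlueTop
import Groth.Agent.H90.LocImmF.Basic2
import Groth.Agent.H90.LocImm.Top

set_option autoImplicit false

universe u

open CategoryTheory AlgebraicGeometry TopologicalSpace Limits

namespace Groth.Agent.H90.LocImmF

open _root_.LocImm Groth.Agent.H90.LocImm

section key

variable {X S U₁ U₂ Y₁ Y₂ W : Scheme.{u}}

/-- The product of two localizing immersions over `S` is a localizing immersion. -/
theorem isLocImmersion_pullbackMap (u₁ : U₁ ⟶ S) (u₂ : U₂ ⟶ S) (p₁ : Y₁ ⟶ S) (p₂ : Y₂ ⟶ S)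
    (k₁ : U₁ ⟶ Y₁) (k₂ : U₂ ⟶ Y₂) (hk₁ : IsLocImmersion k₁) (hk₂ : IsLocImmersion k₂)
    (h₁ : u₁ = k₁ ≫ p₁) (h₂ : u₂ = k₂ ≫ p₂) :
    IsLocImmersion (pullback.map u₁ u₂ p₁ p₂ k₁ k₂ (𝟙 S) ((Category.comp_id _).trans h₁)
      ((Category.comp_id _).trans h₂)) := by
  rw [isLocImmersion_iff_mono]
  have m₁ : Mono k₁ := mono_of_isLocImmersion k₁ hk₁
  have m₂ : Mono k₂ := mono_of_isLocImmersion k₂ hk₂
  refine ⟨MorphismProperty.pullbackMap (P := LocP) hk₁.1 hk₂.1 h₁ h₂, ?_⟩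
  exact MorphismProperty.pullbackMap (P := MorphismProperty.monomorphisms Scheme.{u}) m₁ m₂ h₁ h₂

variable [IsNoetherian X] [IsNoetherian S] [IsNoetherian Y₁] [IsNoetherian Y₂]
  (f : X ⟶ S) [IsSeparated f] (j₁ : U₁ ⟶ X) (j₂ : U₂ ⟶ X) [IsOpenImmersion j₁] [IsOpenImmersion j₂]
  (k₁ : U₁ ⟶ Y₁) (k₂ : U₂ ⟶ Y₂) (hk₁ : IsLocImmersion k₁) (hk₂ : IsLocImmersion k₂)
  (p₁ : Y₁ ⟶ S) (p₂ : Y₂ ⟶ S) [LocallyOfFiniteType p₁] [LocallyOfFiniteType p₂]
  [QuasiCompact p₁] [QuasiCompact p₂]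
  (h₁ : k₁ ≫ p₁ = j₁ ≫ f) (h₂ : k₂ ≫ p₂ = j₂ ≫ f)
  (k₁₂ : pullback j₁ j₂ ⟶ W) (hd : DenseRange k₁₂) (g₁ : W ⟶ Y₁) (g₂ : W ⟶ Y₂)
  (hg : g₁ ≫ p₁ = g₂ ≫ p₂)
  (e₁ : k₁₂ ≫ g₁ = pullback.fst j₁ j₂ ≫ k₁) (e₂ : k₁₂ ≫ g₂ = pullback.snd j₁ j₂ ≫ k₂)

include hk₁ hk₂ h₁ h₂ hd e₁ e₂ in
/-- The key closure computation for gluing. -/
theorem exists_of_mem_closure_range (b : ↥(pullback p₁ p₂))
    (hb : b ∈ closure (Set.range (pullback.lift g₁ g₂ hg)))
    (hb₁ : pullback.fst p₁ p₂ b ∈ Set.range k₁) (hb₂ : pullback.snd p₁ p₂ b ∈ Set.range k₂) :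
    ∃ v : ↥(pullback j₁ j₂), (pullback.lift g₁ g₂ hg) (k₁₂ v) = b := by
  have hPN : IsNoetherian (pullback p₁ p₂) := isNoetherian_of_lft_qc (pullback.fst p₁ p₂)
  have hj₁ : QuasiCompact (j₁ ≫ f) := inferInstance
  have hj₂ : QuasiCompact (j₂ ≫ f) := inferInstance
  let κ : pullback (j₁ ≫ f) (j₂ ≫ f) ⟶ pullback p₁ p₂ :=
    pullback.map (j₁ ≫ f) (j₂ ≫ f) p₁ p₂ k₁ k₂ (𝟙 S) ((Category.comp_id _).trans h₁.symm)
      ((Category.comp_id _).trans h₂.symm)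
  have hκ : IsLocImmersion κ :=
    isLocImmersion_pullbackMap (j₁ ≫ f) (j₂ ≫ f) p₁ p₂ k₁ k₂ hk₁ hk₂ h₁.symm h₂.symm
  let δ : pullback j₁ j₂ ⟶ pullback (j₁ ≫ f) (j₂ ≫ f) := pullback.mapDesc j₁ j₂ f
  have hδκ : δ ≫ κ = k₁₂ ≫ pullback.lift g₁ g₂ hg := by
    apply pullback.hom_ext
    · simp only [δ, κ, pullback.mapDesc, pullback.map, Category.assoc, pullback.lift_fst,
        pullback.lift_fst_assoc, Category.id_comp, Category.comp_id]
      exact e₁.symm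
    · simp only [δ, κ, pullback.mapDesc, pullback.map, Category.assoc, pullback.lift_snd,
        pullback.lift_snd_assoc, Category.id_comp, Category.comp_id]
      exact e₂.symm
  -- the source of `κ` is Noetherian
  have hQU : IsNoetherian U₁ := isNoetherian_of_lft_qc j₁
  have hQN : IsNoetherian (pullback (j₁ ≫ f) (j₂ ≫ f)) :=
    { toIsLocallyNoetherian := isLocallyNoetherian_of_isLocalizing κ hκ.1
      toCompactSpace := inferInstance }
  -- the closure computation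
  have hcl : IsClosed (Set.range δ) := δ.isClosedEmbedding.isClosed_range
  have hpre := preimage_closure_image_eq κ.continuous hκ.2
    (generalizingMap_of_isLocalizing κ hκ.1) hcl
  have himg : κ '' Set.range δ = (pullback.lift g₁ g₂ hg) '' Set.range k₁₂ := by
    rw [← Set.range_comp, ← Set.range_comp]
    have := congrArg (fun φ : pullback j₁ j₂ ⟶ pullback p₁ p₂ => Set.range φ) hδκ
    simpa using this
  have hclos : closure ((pullback.lift g₁ g₂ hg) '' Set.range k₁₂) =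
      closure (Set.range (pullback.lift g₁ g₂ hg)) := by
    apply subset_antisymm
    · exact closure_mono (Set.image_subset_range _ _)
    · apply closure_minimal _ isClosed_closure
      rintro _ ⟨w, rfl⟩
      have hw : w ∈ closure (Set.range k₁₂) := hd w
      exact image_closure_subset_closure_image (pullback.lift g₁ g₂ hg).continuous ⟨w, hw, rfl⟩
  -- `b` is in the range of `κ`
  have hbκ : b ∈ Set.range κ := by
    rw [Scheme.Pullback.range_map]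
    exact ⟨hb₁, hb₂⟩
  obtain ⟨q, rfl⟩ := hbκ
  have hq : q ∈ Set.range δ := by
    rw [← hpre, himg, hclos]
    exact hb
  obtain ⟨v, rfl⟩ := hq
  refine ⟨v, ?_⟩
  rw [← Scheme.Hom.comp_apply, ← hδκ, Scheme.Hom.comp_apply]

end key

end Groth.Agent.H90.LocImmF
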