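import Mathlib
import Groth.Agent.H90.LocImmF.GlueKey

set_option autoImplicit false

universe u

open CategoryTheory AlgebraicGeometry TopologicalSpace Limits

namespace Groth.Agent.H90.LocImmF

open _root_.LocImm Groth.Agent.H90.LocImm

section closed

variable {S Y₁ Y₂ W : Scheme.{u}} (p₁ : Y₁ ⟶ S) (p₂ : Y₂ ⟶ S) (g₁ : W ⟶ Y₁) (g₂ : W ⟶ Y₂)
  (hg : g₁ ≫ p₁ = g₂ ≫ p₂) (O₁ : Y₁.Opens) (O₂ : Y₂.Opens)

instance resLE_isOpenImmersion {X Y : Scheme.{u}} (f : X ⟶ Y) [IsOpenImmersion f] (U : Y.Opens)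
    (V : X.Opens) (e : V ≤ f ⁻¹ᵁ U) : IsOpenImmersion (f.resLE U V e) := by
  delta Scheme.Hom.resLE; infer_instance

include hg in
theorem resLE_comp_eq :
    g₁.resLE O₁ (g₁ ⁻¹ᵁ O₁ ⊓ g₂ ⁻¹ᵁ O₂) inf_le_left ≫ O₁.ι ≫ p₁ =
      g₂.resLE O₂ (g₁ ⁻¹ᵁ O₁ ⊓ g₂ ⁻¹ᵁ O₂) inf_le_right ≫ O₂.ι ≫ p₂ := by
  rw [Scheme.Hom.resLE_comp_ι_assoc, Scheme.Hom.resLE_comp_ι_assoc, hg]

/-- Closedness of the restricted graph. -/
theorem isClosed_range_lift_resLE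
    (hB : ∀ b : ↥(pullback p₁ p₂), b ∈ closure (Set.range (pullback.lift g₁ g₂ hg)) →
      pullback.fst p₁ p₂ b ∈ O₁ → pullback.snd p₁ p₂ b ∈ O₂ →
      b ∈ Set.range (pullback.lift g₁ g₂ hg)) :
    IsClosed (Set.range (pullback.lift (g₁.resLE O₁ (g₁ ⁻¹ᵁ O₁ ⊓ g₂ ⁻¹ᵁ O₂) inf_le_left)
      (g₂.resLE O₂ (g₁ ⁻¹ᵁ O₁ ⊓ g₂ ⁻¹ᵁ O₂) inf_le_right)
      (resLE_comp_eq p₁ p₂ g₁ g₂ hg O₁ O₂))) := by
  set W' : W.Opens := g₁ ⁻¹ᵁ O₁ ⊓ g₂ ⁻¹ᵁ O₂ with hW'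
  set a' := g₁.resLE O₁ W' inf_le_left with ha'
  set b' := g₂.resLE O₂ W' inf_le_right with hb'
  let θ : pullback (O₁.ι ≫ p₁) (O₂.ι ≫ p₂) ⟶ pullback p₁ p₂ :=
    pullback.map (O₁.ι ≫ p₁) (O₂.ι ≫ p₂) p₁ p₂ O₁.ι O₂.ι (𝟙 S) (Category.comp_id _)
      (Category.comp_id _)
  have hθ : IsOpenImmersion θ := inferInstance
  have hcomm : pullback.lift a' b' (resLE_comp_eq p₁ p₂ g₁ g₂ hg O₁ O₂) ≫ θ =
      W'.ι ≫ pullback.lift g₁ g₂ hg := by
    apply pullback.hom_ext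
    · simp only [θ, pullback.map, Category.assoc, pullback.lift_fst, pullback.lift_fst_assoc]
      exact Scheme.Hom.resLE_comp_ι _ _
    · simp only [θ, pullback.map, Category.assoc, pullback.lift_snd, pullback.lift_snd_assoc]
      exact Scheme.Hom.resLE_comp_ι _ _
  have key : Set.range (pullback.lift a' b' (resLE_comp_eq p₁ p₂ g₁ g₂ hg O₁ O₂)) =
      θ ⁻¹' closure (Set.range (pullback.lift g₁ g₂ hg)) := by
    ext c
    constructor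
    · rintro ⟨w, rfl⟩
      apply subset_closure
      refine ⟨W'.ι w, ?_⟩
      rw [← Scheme.Hom.comp_apply, ← hcomm, Scheme.Hom.comp_apply]
    · intro hc
      have h1 : pullback.fst p₁ p₂ (θ c) ∈ O₁ := by
        rw [← Scheme.Hom.comp_apply]
        simp only [θ, pullback.map, pullback.lift_fst]
        rw [Scheme.Hom.comp_apply]
        exact (pullback.fst (O₁.ι ≫ p₁) (O₂.ι ≫ p₂) c).2
      have h2 : pullback.snd p₁ p₂ (θ c) ∈ O₂ := by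
        rw [← Scheme.Hom.comp_apply]
        simp only [θ, pullback.map, pullback.lift_snd]
        rw [Scheme.Hom.comp_apply]
        exact (pullback.snd (O₁.ι ≫ p₁) (O₂.ι ≫ p₂) c).2
      obtain ⟨w, hw⟩ := hB (θ c) hc h1 h2
      have hw1 : g₁ w ∈ O₁ := by
        have : g₁ w = pullback.fst p₁ p₂ (θ c) := by
          rw [← hw, ← Scheme.Hom.comp_apply, pullback.lift_fst]
        rw [this]; exact h1
      have hw2 : g₂ w ∈ O₂ := by
        have : g₂ w = pullback.snd p₁ p₂ (θ c) := by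
          rw [← hw, ← Scheme.Hom.comp_apply, pullback.lift_snd]
        rw [this]; exact h2
      have hwW' : w ∈ W' := ⟨hw1, hw2⟩
      refine ⟨⟨w, hwW'⟩, ?_⟩
      apply θ.isOpenEmbedding.injective
      rw [← Scheme.Hom.comp_apply, hcomm, Scheme.Hom.comp_apply]
      exact hw
  rw [key]
  exact isClosed_closure.preimage θ.continuous

end closed

end Groth.Agent.H90.LocImmF
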