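import Mathlib
import Groth.Agent.H90.LocImmF.GlueClosed
import Groth.Agent.H90.LocImmF.Common
import Groth.Agent.H96.GlueTwo
import Groth.Agent.H24.TwoCover

set_option autoImplicit false

universe u

open CategoryTheory AlgebraicGeometry TopologicalSpace Limits

namespace Groth.Agent.H90.LocImmF

open _root_.LocImm Groth.Agent.H90.LocImm

/-- Gluing Lemma: if `X` is covered by two opens `U₁`, `U₂` and each `U_i → S` factors as a
localizing immersion followed by a separated finite type map, then so does `X → S`. -/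
theorem exists_factorization_of_two {X S U₁ U₂ Y₁ Y₂ : Scheme.{u}} [IsNoetherian X]
    [IsNoetherian S] (f : X ⟶ S) [IsSeparated f]
    (j₁ : U₁ ⟶ X) (j₂ : U₂ ⟶ X) [IsOpenImmersion j₁] [IsOpenImmersion j₂]
    (hcov : Set.range j₁ ∪ Set.range j₂ = Set.univ)
    [IsNoetherian Y₁] [IsNoetherian Y₂]
    (k₁ : U₁ ⟶ Y₁) (k₂ : U₂ ⟶ Y₂) (p₁ : Y₁ ⟶ S) (p₂ : Y₂ ⟶ S)
    (hk₁ : IsLocImmersion k₁) (hk₂ : IsLocImmersion k₂)
    [IsSeparated p₁] [IsSeparated p₂] [LocallyOfFiniteType p₁] [LocallyOfFiniteType p₂]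
    [QuasiCompact p₁] [QuasiCompact p₂]
    (h₁ : k₁ ≫ p₁ = j₁ ≫ f) (h₂ : k₂ ≫ p₂ = j₂ ≫ f) :
    ∃ (Y : Scheme.{u}) (k : X ⟶ Y) (p : Y ⟶ S), IsNoetherian Y ∧ IsLocImmersion k ∧
      IsSeparated p ∧ LocallyOfFiniteType p ∧ QuasiCompact p ∧ k ≫ p = f := by
  have hU₁ : IsNoetherian U₁ := isNoetherian_of_lft_qc j₁
  have hU₂ : IsNoetherian U₂ := isNoetherian_of_lft_qc j₂
  have hV : IsNoetherian (pullback j₁ j₂) := isNoetherian_of_lft_qc (pullback.fst j₁ j₂)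
  have hφ₁ : IsLocImmersion (pullback.fst j₁ j₂ ≫ k₁) :=
    isLocImmersion_comp _ _ (isLocImmersion_of_isOpenImmersion _) hk₁
  have hφ₂ : IsLocImmersion (pullback.snd j₁ j₂ ≫ k₂) :=
    isLocImmersion_comp _ _ (isLocImmersion_of_isOpenImmersion _) hk₂
  have hφ : (pullback.fst j₁ j₂ ≫ k₁) ≫ p₁ = (pullback.snd j₁ j₂ ≫ k₂) ≫ p₂ := by
    rw [Category.assoc, Category.assoc, h₁, h₂, pullback.condition_assoc]
  obtain ⟨W, k₁₂, g₁, g₂, hk₁₂, hg₁, hg₂, hg, e₁, e₂, hd⟩ :=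
    exists_common_open _ _ p₁ p₂ hφ₁ hφ₂ hφ
  have hPN : IsNoetherian (pullback p₁ p₂) := isNoetherian_of_lft_qc (pullback.fst p₁ p₂)
  -- the graph of `W` is locally closed
  have hγ : IsImmersion (pullback.lift g₁ g₂ hg) := by
    have : IsImmersion (pullback.lift g₁ g₂ hg ≫ pullback.fst p₁ p₂) := by
      rw [pullback.lift_fst]; infer_instance
    exact IsImmersion.of_comp _ (pullback.fst p₁ p₂)
  have hBcl : IsClosed (closure (Set.range (pullback.lift g₁ g₂ hg)) \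
      Set.range (pullback.lift g₁ g₂ hg)) := by
    have := (pullback.lift g₁ g₂ hg).isLocallyClosed_range.isOpen_coborder
    rw [coborder] at this
    exact isOpen_compl_iff.mp this
  have hkey := exists_of_mem_closure_range f j₁ j₂ k₁ k₂ hk₁ hk₂ p₁ p₂ h₁ h₂ k₁₂ hd g₁ g₂ hg e₁ e₂
  obtain ⟨O₁, O₂, hO₁, hO₂, hkO₁, hkO₂, hdisj⟩ := exists_opens_disjoint
    (pullback.fst p₁ p₂) (pullback.snd p₁ p₂) (pullback.fst p₁ p₂).continuous
    (pullback.snd p₁ p₂).continuous _ hBcl (Set.range k₁) (Set.range k₂)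
    (stableUnderGeneralization_range k₁ hk₁.1) (stableUnderGeneralization_range k₂ hk₂.1)
    (fun b hb hb₁ hb₂ => by
      obtain ⟨v, hv⟩ := hkey b hb.1 hb₁ hb₂
      exact hb.2 ⟨_, hv⟩)
  let Y₁' : Y₁.Opens := ⟨O₁, hO₁⟩
  let Y₂' : Y₂.Opens := ⟨O₂, hO₂⟩
  have hcl := isClosed_range_lift_resLE p₁ p₂ g₁ g₂ hg Y₁' Y₂' (fun b hb hb₁ hb₂ => by
    by_contra hcon
    exact hdisj b ⟨hb, hcon⟩ hb₁ hb₂)
  set W' : W.Opens := g₁ ⁻¹ᵁ Y₁' ⊓ g₂ ⁻¹ᵁ Y₂' with hW'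
  set a' := g₁.resLE Y₁' W' inf_le_left with ha'
  set b' := g₂.resLE Y₂' W' inf_le_right with hb'
  obtain ⟨Y, q, i₁, i₂, hqsep, hi₁, hi₂, hq₁, hq₂, hab, hYcov, hint⟩ :=
    Groth.Agent.H96.GlueTwo.exists_glue a' b' (Y₁'.ι ≫ p₁) (Y₂'.ι ≫ p₂)
      (resLE_comp_eq p₁ p₂ g₁ g₂ hg Y₁' Y₂') hcl
  have hlft₁ : LocallyOfFiniteType (i₁ ≫ q) := by rw [hq₁]; infer_instance
  have hlft₂ : LocallyOfFiniteType (i₂ ≫ q) := by rw [hq₂]; infer_instance
  have hqc₁ : QuasiCompact (i₁ ≫ q) := by rw [hq₁]; infer_instance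
  have hqc₂ : QuasiCompact (i₂ ≫ q) := by rw [hq₂]; infer_instance
  have hqlft : LocallyOfFiniteType q :=
    Groth.Agent.H96.GlueTwo.locallyOfFiniteType_of_cover i₁ i₂ q hYcov
  have hqqc : QuasiCompact q := Groth.Agent.H96.GlueTwo.quasiCompact_of_cover i₁ i₂ q hYcov
  have hYN : IsNoetherian Y := isNoetherian_of_lft_qc q
  -- the maps `U_i → Y_i'`
  have hr₁ : Set.range k₁ ⊆ Set.range Y₁'.ι := by
    rw [Scheme.Opens.range_ι]; exact hkO₁
  have hr₂ : Set.range k₂ ⊆ Set.range Y₂'.ι := by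
    rw [Scheme.Opens.range_ι]; exact hkO₂
  let k₁' : U₁ ⟶ Y₁' := IsOpenImmersion.lift Y₁'.ι k₁ hr₁
  let k₂' : U₂ ⟶ Y₂' := IsOpenImmersion.lift Y₂'.ι k₂ hr₂
  have hk₁' : k₁' ≫ Y₁'.ι = k₁ := IsOpenImmersion.lift_fac _ _ _
  have hk₂' : k₂' ≫ Y₂'.ι = k₂ := IsOpenImmersion.lift_fac _ _ _
  have hk₁'loc : IsLocImmersion k₁' := isLocImmersion_of_comp_isOpenImmersion k₁' Y₁'.ι
    (by rw [hk₁']; exact hk₁)
  have hk₂'loc : IsLocImmersion k₂' := isLocImmersion_of_comp_isOpenImmersion k₂' Y₂'.ι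
    (by rw [hk₂']; exact hk₂)
  -- `k₁₂` lands in `W'`
  have hr₁₂ : Set.range k₁₂ ⊆ Set.range W'.ι := by
    rw [Scheme.Opens.range_ι]
    rintro _ ⟨v, rfl⟩
    refine ⟨?_, ?_⟩
    · change g₁ (k₁₂ v) ∈ O₁
      rw [← Scheme.Hom.comp_apply, e₁, Scheme.Hom.comp_apply]
      exact hkO₁ ⟨_, rfl⟩
    · change g₂ (k₁₂ v) ∈ O₂
      rw [← Scheme.Hom.comp_apply, e₂, Scheme.Hom.comp_apply]
      exact hkO₂ ⟨_, rfl⟩
  let k₁₂' : pullback j₁ j₂ ⟶ W' := IsOpenImmersion.lift W'.ι k₁₂ hr₁₂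
  have hk₁₂' : k₁₂' ≫ W'.ι = k₁₂ := IsOpenImmersion.lift_fac _ _ _
  have ha₁ : k₁₂' ≫ a' = pullback.fst j₁ j₂ ≫ k₁' := by
    rw [← cancel_mono Y₁'.ι, Category.assoc, Category.assoc, hk₁', ha',
      Scheme.Hom.resLE_comp_ι, reassoc_of% hk₁₂', e₁]
  have hb₁ : k₁₂' ≫ b' = pullback.snd j₁ j₂ ≫ k₂' := by
    rw [← cancel_mono Y₂'.ι, Category.assoc, Category.assoc, hk₂', hb',
      Scheme.Hom.resLE_comp_ι, reassoc_of% hk₁₂', e₂]
  have hφψ : pullback.fst j₁ j₂ ≫ (k₁' ≫ i₁) = pullback.snd j₁ j₂ ≫ (k₂' ≫ i₂) := by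
    rw [← Category.assoc, ← ha₁, ← Category.assoc, ← hb₁, Category.assoc, Category.assoc, hab]
  obtain ⟨k, hka, hkb⟩ := Groth.Agent.H24.exists_glue_two j₁ j₂ hcov
    (IsPullback.of_hasPullback j₁ j₂) (k₁' ≫ i₁) (k₂' ≫ i₂) hφψ
  have hkq : k ≫ q = f := by
    refine Groth.Agent.H24.hom_ext_two j₁ j₂ hcov ?_ ?_
    · rw [reassoc_of% hka, hq₁, reassoc_of% hk₁', h₁]
    · rw [reassoc_of% hkb, hq₂, reassoc_of% hk₂', h₂]
  refine ⟨Y, k, q, hYN, ⟨?_, ?_⟩, hqsep, hqlft, hqqc, hkq⟩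
  · -- localizing
    have hl₁ : IsLocalizing (j₁ ≫ k) := by
      rw [hka]
      exact isLocalizing_comp _ _ hk₁'loc.1 (isLocalizing_of_isOpenImmersion i₁)
    have hl₂ : IsLocalizing (j₂ ≫ k) := by
      rw [hkb]
      exact isLocalizing_comp _ _ hk₂'loc.1 (isLocalizing_of_isOpenImmersion i₂)
    refine IsZariskiLocalAtSource.of_openCover (P := LocP) (Groth.Agent.H24.twoCover j₁ j₂ hcov) ?_
    intro i
    cases i
    · exact hl₂
    · exact hl₁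
  · -- injective
    have hinj₁ : Function.Injective (j₁ ≫ k) := by
      rw [hka]
      intro x y hxy
      apply hk₁'loc.2
      apply i₁.isOpenEmbedding.injective
      simpa using hxy
    have hinj₂ : Function.Injective (j₂ ≫ k) := by
      rw [hkb]
      intro x y hxy
      apply hk₂'loc.2
      apply i₂.isOpenEmbedding.injective
      simpa using hxy
    have hmixed : ∀ (u₁ : U₁) (u₂ : U₂), k (j₁ u₁) = k (j₂ u₂) → j₁ u₁ = j₂ u₂ := by
      intro u₁ u₂ hu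
      have hu' : i₁ (k₁' u₁) = i₂ (k₂' u₂) := by
        rw [← Scheme.Hom.comp_apply, ← Scheme.Hom.comp_apply, ← hka, ← hkb]
        simpa using hu
      obtain ⟨w', hw₁, hw₂⟩ := hint _ _ hu'
      have hgw₁ : g₁ (W'.ι w') = k₁ u₁ := by
        rw [← Scheme.Hom.comp_apply, ← Scheme.Hom.resLE_comp_ι g₁ (inf_le_left : W' ≤ g₁ ⁻¹ᵁ Y₁'),
          Scheme.Hom.comp_apply, ← ha', hw₁, ← Scheme.Hom.comp_apply, hk₁']
      have hgw₂ : g₂ (W'.ι w') = k₂ u₂ := by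
        rw [← Scheme.Hom.comp_apply, ← Scheme.Hom.resLE_comp_ι g₂ (inf_le_right : W' ≤ g₂ ⁻¹ᵁ Y₂'),
          Scheme.Hom.comp_apply, ← hb', hw₂, ← Scheme.Hom.comp_apply, hk₂']
      obtain ⟨v, hv⟩ := hkey (pullback.lift g₁ g₂ hg (W'.ι w')) (subset_closure ⟨_, rfl⟩)
        (by rw [← Scheme.Hom.comp_apply, pullback.lift_fst, hgw₁]; exact ⟨_, rfl⟩)
        (by rw [← Scheme.Hom.comp_apply, pullback.lift_snd, hgw₂]; exact ⟨_, rfl⟩)
      have hv₁ : pullback.fst j₁ j₂ v = u₁ := by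
        apply hk₁.2
        have := congrArg (pullback.fst p₁ p₂) hv
        have l1 : pullback.fst p₁ p₂ (pullback.lift g₁ g₂ hg (k₁₂ v)) =
            k₁ (pullback.fst j₁ j₂ v) := by
          rw [← Scheme.Hom.comp_apply, pullback.lift_fst, ← Scheme.Hom.comp_apply, e₁,
            Scheme.Hom.comp_apply]
        have l2 : pullback.fst p₁ p₂ (pullback.lift g₁ g₂ hg (W'.ι w')) = k₁ u₁ := by
          rw [← Scheme.Hom.comp_apply, pullback.lift_fst, hgw₁]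
        rw [l1, l2] at this
        exact this
      have hv₂ : pullback.snd j₁ j₂ v = u₂ := by
        apply hk₂.2
        have := congrArg (pullback.snd p₁ p₂) hv
        have l1 : pullback.snd p₁ p₂ (pullback.lift g₁ g₂ hg (k₁₂ v)) =
            k₂ (pullback.snd j₁ j₂ v) := by
          rw [← Scheme.Hom.comp_apply, pullback.lift_snd, ← Scheme.Hom.comp_apply, e₂,
            Scheme.Hom.comp_apply]
        have l2 : pullback.snd p₁ p₂ (pullback.lift g₁ g₂ hg (W'.ι w')) = k₂ u₂ := by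
          rw [← Scheme.Hom.comp_apply, pullback.lift_snd, hgw₂]
        rw [l1, l2] at this
        exact this
      rw [← hv₁, ← hv₂, ← Scheme.Hom.comp_apply, ← Scheme.Hom.comp_apply, pullback.condition]
    intro x x' hxx'
    have hx : x ∈ Set.range j₁ ∪ Set.range j₂ := hcov ▸ Set.mem_univ x
    have hx' : x' ∈ Set.range j₁ ∪ Set.range j₂ := hcov ▸ Set.mem_univ x'
    rcases hx with ⟨u, rfl⟩ | ⟨u, rfl⟩ <;> rcases hx' with ⟨u', rfl⟩ | ⟨u', rfl⟩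
    · congr 1
      apply hinj₁
      simpa using hxx'
    · exact hmixed u u' hxx'
    · exact (hmixed u' u hxx'.symm).symm
    · congr 1
      apply hinj₂
      simpa using hxx'

end Groth.Agent.H90.LocImmF
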