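import Mathlib
import Groth.Agent.H90.LocImmF.LocalFact
import Groth.Agent.H90.LocImmF.GlueMain

set_option autoImplicit false

universe u

open CategoryTheory AlgebraicGeometry TopologicalSpace Limits

namespace Groth.Agent.H90.LocImmF

open _root_.LocImm Groth.Agent.H90.LocImm

/-- The factorization property for the restriction of `f` to an open `U`. -/
def HasFact {X S : Scheme.{u}} (f : X ⟶ S) (U : X.Opens) : Prop :=
  ∃ (Y : Scheme.{u}) (k : (U : Scheme.{u}) ⟶ Y) (p : Y ⟶ S), IsNoetherian Y ∧ IsLocImmersion k ∧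
    IsSeparated p ∧ LocallyOfFiniteType p ∧ QuasiCompact p ∧ k ≫ p = U.ι ≫ f

theorem hasFact_bot {X S : Scheme.{u}} [IsNoetherian S] (f : X ⟶ S) : HasFact f ⊥ := by
  refine ⟨S, (⊥ : X.Opens).ι ≫ f, 𝟙 S, inferInstance, ⟨?_, ?_⟩, inferInstance, inferInstance,
    inferInstance, Category.comp_id _⟩
  · intro x
    exact x.2.elim
  · intro x
    exact x.2.elim

theorem hasFact_sup {X S : Scheme.{u}} [IsNoetherian X] [IsNoetherian S] (f : X ⟶ S)
    [IsSeparated f] (U₁ U₂ : X.Opens) (h₁ : HasFact f U₁) (h₂ : HasFact f U₂) :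
    HasFact f (U₁ ⊔ U₂) := by
  obtain ⟨Y₁, k₁, p₁, hY₁, hk₁, hs₁, hl₁, hq₁, e₁⟩ := h₁
  obtain ⟨Y₂, k₂, p₂, hY₂, hk₂, hs₂, hl₂, hq₂, e₂⟩ := h₂
  have hN : IsNoetherian (↑(U₁ ⊔ U₂) : Scheme.{u}) := isNoetherian_of_lft_qc (U₁ ⊔ U₂).ι
  refine exists_factorization_of_two ((U₁ ⊔ U₂).ι ≫ f) (X.homOfLE le_sup_left)
    (X.homOfLE le_sup_right) ?_ k₁ k₂ p₁ p₂ hk₁ hk₂ ?_ ?_
  · rw [Set.eq_univ_iff_forall]
    rintro ⟨x, hx⟩
    rcases hx with hx | hx
    · left
      exact ⟨⟨x, hx⟩, Subtype.ext (by simp)⟩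
    · right
      exact ⟨⟨x, hx⟩, Subtype.ext (by simp)⟩
  · rw [e₁, Scheme.homOfLE_ι_assoc]
  · rw [e₂, Scheme.homOfLE_ι_assoc]

theorem hasFact_biSup {X S : Scheme.{u}} [IsNoetherian X] [IsNoetherian S] (f : X ⟶ S)
    [IsSeparated f] {ι : Type*} (V : ι → X.Opens) (hV : ∀ i, HasFact f (V i)) (t : Finset ι) :
    HasFact f (⨆ i ∈ t, V i) := by
  classical
  induction t using Finset.induction_on with
  | empty =>
    simp only [Finset.notMem_empty, iSup_false, iSup_bot]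
    exact hasFact_bot f
  | insert a t _ ih =>
    rw [Finset.iSup_insert]
    exact hasFact_sup f _ _ (hV a) ih

/-- Nayak's factorization: a separated essentially finite type morphism of Noetherian schemes
is a localizing immersion followed by a separated finite type morphism. -/
theorem exists_factorization {X S : Scheme.{u}} [IsNoetherian X] [IsNoetherian S] (f : X ⟶ S)
    [IsSeparated f] [EssFT.LocallyEssFiniteType f] :
    ∃ (Y : Scheme.{u}) (k : X ⟶ Y) (p : Y ⟶ S), IsNoetherian Y ∧ IsLocImmersion k ∧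
      IsSeparated p ∧ LocallyOfFiniteType p ∧ QuasiCompact p ∧ k ≫ p = f := by
  choose V hxV Y k p hfact using exists_local_factorization f
  have hV : ∀ x, HasFact f (V x) := fun x => ⟨Y x, k x, p x, hfact x⟩
  obtain ⟨t, ht⟩ := isCompact_univ.elim_finite_subcover (fun x : X => ((V x : X.Opens) : Set X))
    (fun x => (V x).2) (fun x _ => Set.mem_iUnion.mpr ⟨x, hxV x⟩)
  have htop : (⨆ i ∈ t, V i) = ⊤ := by
    rw [eq_top_iff]
    intro x hx
    have := ht hx
    simp only [Set.mem_iUnion] at this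
    obtain ⟨i, hi, hxi⟩ := this
    exact Opens.mem_iSup.mpr ⟨i, Opens.mem_iSup.mpr ⟨hi, hxi⟩⟩
  have := hasFact_biSup f V hV t
  rw [htop] at this
  obtain ⟨Y', k', p', hY', hk', hs', hl', hq', e'⟩ := this
  refine ⟨Y', X.topIso.inv ≫ k', p', hY', ?_, hs', hl', hq', ?_⟩
  · exact isLocImmersion_comp _ _ (isLocImmersion_of_isOpenImmersion _) hk'
  · rw [Category.assoc, e', Scheme.toIso_inv_ι_assoc]

end Groth.Agent.H90.LocImmF
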