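import Mathlib
import Groth.Agent.H90.LocImmF.EssFTComp
import Groth.Agent.H90.LocImmF.Factor

set_option autoImplicit false

universe u

open CategoryTheory AlgebraicGeometry TopologicalSpace Limits

namespace Groth.Agent.H90.LocImmF

open _root_.LocImm Groth.Agent.H90.LocImm

theorem essFiniteType_fromSpecStalk_comp {X Y : Scheme.{u}} [IsLocallyNoetherian X] (g : X ⟶ Y)
    [EssFT.LocallyEssFiniteType g] (x : X) : EssFT.EssFiniteType (X.fromSpecStalk x ≫ g) :=
  { toLocallyEssFiniteType := by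
      haveI := locallyEssFiniteType_of_isLocalizing _ (isLocImmersion_fromSpecStalk X x).1
      exact locallyEssFiniteType_comp _ _
    toQuasiCompact := inferInstance }

theorem isSeparated_fromSpecStalk_comp {X Y : Scheme.{u}} (g : X ⟶ Y) [IsSeparated g] (x : X) :
    IsSeparated (X.fromSpecStalk x ≫ g) := inferInstance

theorem essFiniteType_of_lft_qc {X Y : Scheme.{u}} (g : X ⟶ Y) [LocallyOfFiniteType g]
    [QuasiCompact g] : EssFT.EssFiniteType g :=
  { toLocallyEssFiniteType := locallyEssFiniteType_of_locallyOfFiniteType g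
    toQuasiCompact := inferInstance }

section

variable (P : MorphismProperty Scheme.{u})
  (hα : ∀ {W X Y : Scheme.{u}} [IsNoetherian W] [IsNoetherian X] [IsNoetherian Y] (i : W ⟶ X)
    (f : X ⟶ Y) [IsSeparated f] [EssFT.EssFiniteType f], IsLocImmersion i → P f → P (i ≫ f))

include hα

/-- Transfer of `P` at stalks along a morphism inducing an isomorphism of local rings. -/
theorem transfer_iff {X Z Y : Scheme.{u}} [IsNoetherian X] [IsNoetherian Z] [IsNoetherian Y]
    (k : X ⟶ Z) (p : Z ⟶ Y) [IsSeparated p] [EssFT.LocallyEssFiniteType p]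
    [IsSeparated (k ≫ p)] [EssFT.LocallyEssFiniteType (k ≫ p)] (x : X) [IsIso (k.stalkMap x)] :
    P (X.fromSpecStalk x ≫ k ≫ p) ↔ P (Z.fromSpecStalk (k x) ≫ p) := by
  have e : Spec.map (k.stalkMap x) ≫ Z.fromSpecStalk (k x) ≫ p = X.fromSpecStalk x ≫ k ≫ p := by
    rw [← Category.assoc, Scheme.SpecMap_stalkMap_fromSpecStalk, Category.assoc]
  have e' : Spec.map (inv (k.stalkMap x)) ≫ X.fromSpecStalk x ≫ k ≫ p =
      Z.fromSpecStalk (k x) ≫ p := by
    rw [← e, ← Spec.map_comp_assoc, IsIso.hom_inv_id, Spec.map_id, Category.id_comp]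
  constructor
  · intro h
    rw [← e']
    haveI := essFiniteType_fromSpecStalk_comp (k ≫ p) x
    haveI := isSeparated_fromSpecStalk_comp (k ≫ p) x
    exact hα (Spec.map (inv (k.stalkMap x))) (X.fromSpecStalk x ≫ k ≫ p)
      (isLocImmersion_of_isIso _) h
  · intro h
    rw [← e]
    haveI := essFiniteType_fromSpecStalk_comp p (k x)
    haveI := isSeparated_fromSpecStalk_comp p (k x)
    exact hα (Spec.map (k.stalkMap x)) (Z.fromSpecStalk (k x) ≫ p) (isLocImmersion_of_isIso _) h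

variable
  (hβ₁ : ∀ {X Y : Scheme.{u}} [IsNoetherian X] [IsNoetherian Y] (f : X ⟶ Y) [IsSeparated f]
    [LocallyOfFiniteType f], (∀ x : X, P (X.fromSpecStalk x ≫ f)) → P f)
  (hβ₂ : ∀ {X Y : Scheme.{u}} [IsNoetherian X] [IsNoetherian Y] (f : X ⟶ Y) [IsSeparated f]
    [LocallyOfFiniteType f], IsOpen {x : X | P (X.fromSpecStalk x ≫ f)})

include hβ₁ hβ₂

/-- The core construction: if `P` holds at all stalks, then `f` factors through a separated finite
type morphism satisfying `P`. -/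
theorem exists_factorization_P {X Y : Scheme.{u}} [IsNoetherian X] [IsNoetherian Y] (f : X ⟶ Y)
    [IsSeparated f] [EssFT.LocallyEssFiniteType f] (hx : ∀ x : X, P (X.fromSpecStalk x ≫ f)) :
    ∃ (Z : Scheme.{u}) (i : X ⟶ Z) (h : Z ⟶ Y), IsNoetherian Z ∧ IsLocImmersion i ∧
      IsSeparated h ∧ LocallyOfFiniteType h ∧ QuasiCompact h ∧ P h ∧ i ≫ h = f := by
  obtain ⟨Z, k, p, hZ, hk, hps, hpl, hpq, hkp⟩ := exists_factorization f
  have hiso := isIso_stalkMap_of_isLocalizing k hk.1
  haveI : EssFT.LocallyEssFiniteType p := locallyEssFiniteType_of_locallyOfFiniteType p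
  haveI : IsSeparated (k ≫ p) := by rw [hkp]; infer_instance
  haveI : EssFT.LocallyEssFiniteType (k ≫ p) := by rw [hkp]; infer_instance
  let Ω : Z.Opens := ⟨{z : Z | P (Z.fromSpecStalk z ≫ p)}, hβ₂ p⟩
  have hkΩ : ∀ x, k x ∈ Ω := by
    intro x
    haveI := hiso x
    exact (transfer_iff P hα k p x).mp (by rw [hkp]; exact hx x)
  have hr : Set.range k ⊆ Set.range Ω.ι := by
    rw [Scheme.Opens.range_ι]
    rintro _ ⟨x, rfl⟩
    exact hkΩ x
  let k' : X ⟶ Ω := IsOpenImmersion.lift Ω.ι k hr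
  have hk' : k' ≫ Ω.ι = k := IsOpenImmersion.lift_fac _ _ _
  have hk'loc : IsLocImmersion k' := isLocImmersion_of_comp_isOpenImmersion k' _
    (by rw [hk']; exact hk)
  have hΩN : IsNoetherian (Ω : Scheme.{u}) := isNoetherian_of_lft_qc Ω.ι
  have hPh : P (Ω.ι ≫ p) := by
    apply hβ₁
    intro w
    haveI : IsIso (Ω.ι.stalkMap w) := inferInstance
    haveI : EssFT.LocallyEssFiniteType (Ω.ι ≫ p) :=
      locallyEssFiniteType_of_locallyOfFiniteType _
    exact (transfer_iff P hα Ω.ι p w).mpr w.2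
  refine ⟨Ω, k', Ω.ι ≫ p, hΩN, hk'loc, inferInstance, inferInstance, inferInstance, hPh, ?_⟩
  rw [reassoc_of% hk', hkp]

theorem main {X Y : Scheme.{u}} [IsNoetherian X] [IsNoetherian Y] (f : X ⟶ Y)
    [IsSeparated f] [EssFT.EssFiniteType f] :
    ((∀ x : X, P (X.fromSpecStalk x ≫ f)) → P f) ∧ IsOpen {x : X | P (X.fromSpecStalk x ≫ f)} ∧
      (P f → ∃ (Z : Scheme.{u}) (i : X ⟶ Z) (h : Z ⟶ Y), IsNoetherian Z ∧ IsLocImmersion i ∧
        IsSeparated h ∧ LocallyOfFiniteType h ∧ QuasiCompact h ∧ P h ∧ i ≫ h = f) := by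
  refine ⟨?_, ?_, ?_⟩
  · intro hx
    obtain ⟨Z, i, h, hZ, hi, hs, hl, hq, hPh, rfl⟩ := exists_factorization_P P hα hβ₁ hβ₂ f hx
    haveI := essFiniteType_of_lft_qc h
    exact hα i h hi hPh
  · obtain ⟨Z, k, p, hZ, hk, hps, hpl, hpq, hkp⟩ := exists_factorization f
    have hiso := isIso_stalkMap_of_isLocalizing k hk.1
    haveI : EssFT.LocallyEssFiniteType p := locallyEssFiniteType_of_locallyOfFiniteType p
    haveI : IsSeparated (k ≫ p) := by rw [hkp]; infer_instance
    haveI : EssFT.LocallyEssFiniteType (k ≫ p) := by rw [hkp]; infer_instance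
    have heq : {x : X | P (X.fromSpecStalk x ≫ f)} = k ⁻¹' {z : Z | P (Z.fromSpecStalk z ≫ p)} := by
      ext x
      haveI := hiso x
      simp only [Set.mem_setOf_eq, Set.mem_preimage]
      rw [← hkp]
      exact transfer_iff P hα k p x
    rw [heq]
    exact (hβ₂ p).preimage k.continuous
  · intro hPf
    apply exists_factorization_P P hα hβ₁ hβ₂ f
    intro x
    exact hα (X.fromSpecStalk x) f (isLocImmersion_fromSpecStalk X x) hPf

end

end Groth.Agent.H90.LocImmF
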