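import Mathlib
import Groth.Agent.H90.LocImmF.PStalk
import Groth.Agent.H90.FlatAt
import Groth.Agent.S0386

set_option autoImplicit false

universe u

open CategoryTheory AlgebraicGeometry TopologicalSpace Limits

namespace Groth.Agent.H90.LocImmF

open _root_.LocImm Groth.Agent.H90.LocImm

/-- The flat case of the factorization with property. -/
theorem flat_main {X Y : Scheme.{u}} [IsNoetherian X] [IsNoetherian Y] (f : X ⟶ Y) [IsSeparated f]
    [EssFT.EssFiniteType f] :
    IsOpen {x : X | Flat (X.fromSpecStalk x ≫ f)} ∧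
      (Flat f → ∃ (Z : Scheme.{u}) (i : X ⟶ Z) (h : Z ⟶ Y), IsNoetherian Z ∧ IsLocImmersion i ∧
        IsSeparated h ∧ LocallyOfFiniteType h ∧ QuasiCompact h ∧ Flat h ∧ i ≫ h = f) := by
  have := main (P := @Flat)
    (fun {W X Y} _ _ _ i f _ _ hi hf => by
      haveI : Flat i := flat_of_isLocalizing i hi.1
      haveI : Flat f := hf
      exact (inferInstance : Flat (i ≫ f)))
    (fun {X Y} _ _ f _ _ hx => Flat.of_stalkMap f
      (fun x => (Groth.Agent.H90.flatAt_iff_flat_fromSpecStalk f x).mpr (hx x)))
    (fun {X Y} _ _ f _ _ => by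
      have h := Groth.Agent.S0386.result f
      have heq : {x : X | Flat (X.fromSpecStalk x ≫ f)} = {x : X | (f.stalkMap x).hom.Flat} := by
        ext x
        exact (Groth.Agent.H90.flatAt_iff_flat_fromSpecStalk f x).symm
      rw [heq]
      exact h) f
  exact ⟨this.2.1, this.2.2⟩

end Groth.Agent.H90.LocImmF
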