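import Mathlib
import Groth.Agent.H90.LocImmF.Factor
import Groth.Agent.H68.ZMT.FiniteFP

set_option autoImplicit false

universe u

open CategoryTheory AlgebraicGeometry TopologicalSpace Limits

namespace Groth.Agent.H90.LocImmF

open _root_.LocImm Groth.Agent.H90.LocImm

/-- Essentially quasi-finite separated morphisms of Noetherian schemes factor as a localizing
immersion followed by a finite morphism. -/
theorem exists_factorization_finite {X Y : Scheme.{u}} [IsNoetherian X] [IsNoetherian Y]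
    (f : X ⟶ Y) [IsSeparated f] [EssFT.LocallyEssFiniteType f] [LocallyQuasiFinite f] :
    ∃ (Z : Scheme.{u}) (i : X ⟶ Z) (h : Z ⟶ Y), IsNoetherian Z ∧ IsLocImmersion i ∧ IsFinite h ∧
      i ≫ h = f := by
  obtain ⟨Z, k, p, hZ, hk, hps, hpl, hpq, hkp⟩ := exists_factorization f
  have hiso := isIso_stalkMap_of_isLocalizing k hk.1
  have hQ : ∀ x, k x ∈ p.quasiFiniteLocus := by
    intro x
    rw [Scheme.Hom.mem_quasiFiniteLocus]
    have hx : (k ≫ p).QuasiFiniteAt x := by
      rw [hkp]; exact f.quasiFiniteAt x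
    haveI := hiso x
    simp only [Scheme.Hom.QuasiFiniteAt, Scheme.Hom.stalkMap_comp] at hx ⊢
    exact (RingHom.QuasiFinite.respectsIso.cancel_right_isIso _ (k.stalkMap x)).mp hx
  have hr : Set.range k ⊆ Set.range p.quasiFiniteLocus.ι := by
    rw [Scheme.Opens.range_ι]
    rintro _ ⟨x, rfl⟩
    exact hQ x
  let k' : X ⟶ p.quasiFiniteLocus := IsOpenImmersion.lift p.quasiFiniteLocus.ι k hr
  have hk' : k' ≫ p.quasiFiniteLocus.ι = k := IsOpenImmersion.lift_fac _ _ _
  have hk'loc : IsLocImmersion k' := isLocImmersion_of_comp_isOpenImmersion k' _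
    (by rw [hk']; exact hk)
  have hqc : QuasiCompact (p.quasiFiniteLocus.ι ≫ p) := inferInstance
  obtain ⟨T, j, π, hj, hjqc, hπ, hπfp, hjπ⟩ :=
    Groth.Agent.H68.ZMT.exists_openImmersion_finite_fp (p.quasiFiniteLocus.ι ≫ p)
  have hT : IsNoetherian T := isNoetherian_of_lft_qc π
  refine ⟨T, k' ≫ j, π, hT, ?_, hπ, ?_⟩
  · exact isLocImmersion_comp _ _ hk'loc (isLocImmersion_of_isOpenImmersion j)
  · rw [Category.assoc, hjπ, reassoc_of% hk', hkp]

end Groth.Agent.H90.LocImmF
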